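import Cfsg.Agent.BpSpor.Inn.Base
import Cfsg.Agent.KFacts.Co3.Sheet
import Cfsg.Agent.BpSpor.RowAll
import Cfsg.Agent.SporRec.Co3.Model
import Cfsg.Agent.SporRec.Co3.Chain

-- merged: Cfsg.Agent.BpSpor.Inn.Co3
section

/-!
# Automorphisms of odd prime order: `Co3` (helper5)
-/

set_option autoImplicit false

namespace Cfsg.Agent.BpSpor.Inn

open Cfsg

theorem co3 {K : Type*} [Group K] (h : Spor.IsoCo3 K) : OddInn K := by
  obtain ⟨e⟩ := h
  exact of_inner fun α =>
    Cfsg.Agent.KFacts.Co3.Sheet.inner_of (e.trans Cfsg.Agent.SporRec.Co3.Model.equivCo3.symm).symm α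

end Cfsg.Agent.BpSpor.Inn

end

-- merged: Cfsg.Agent.BpSpor.Row.Co3
section

/-!
# S1332, the row `Co3` for all odd primes, from the primes whose square divides the order (helper5)
-/

set_option autoImplicit false

namespace Cfsg.Agent.BpSpor.Row

open Cfsg Cfsg.Agent.BpTab

universe u

theorem dat_co3 {K : Type u} [Group K] (h : Spor.IsoCo3 K) : Dat K 495766656000 where
  simple := by
    obtain ⟨e⟩ := h
    exact (MulEquiv.isSimpleGroup_congr (e.trans Cfsg.Agent.SporRec.Co3.Model.equivCo3.symm)).2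
      Cfsg.Agent.SporRec.Co3.Chain.isCo3_G3.1
  card := by
    obtain ⟨e⟩ := h
    rw [Nat.card_congr (e.trans Cfsg.Agent.SporRec.Co3.Model.equivCo3.symm).toEquiv,
      Cfsg.Agent.SporRec.Co3.Chain.isCo3_G3.2]
  inn := Inn.co3 h

theorem co3_of {K : Type u} [Group K] (h : Spor.IsoCo3 K) (h3 : BpS 3 K) (h5 : BpS 5 K) {p : ℕ} (hp : p.Prime)
    (hp2 : p ≠ 2) : BpS p K := by
  refine (dat_co3 h).bps (l := [(2, 10), (3, 7), (5, 3), (7, 1), (11, 1), (23, 1)]) (by decide +kernel)
    (by norm_num) (fun x hx hx2 hx3 => ?_) hp hp2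
  simp only [List.mem_cons, List.not_mem_nil, or_false] at hx
  rcases hx with rfl | rfl | rfl | rfl | rfl | rfl
  · exact absurd rfl hx3
  · exact h3
  · exact h5
  · exact absurd hx2 (by norm_num)
  · exact absurd hx2 (by norm_num)
  · exact absurd hx2 (by norm_num)

end Cfsg.Agent.BpSpor.Row

end
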