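import Cfsg.Agent.BpSpor.Inn.Base
import Cfsg.Agent.CpAutTits.Row
import Cfsg.Agent.BpSpor.RowAll
import Cfsg.Agent.S1074

-- merged: Cfsg.Agent.BpSpor.Inn.Tits
section

/-!
# Automorphisms of odd prime order: `Tits` (helper5)
-/

set_option autoImplicit false

namespace Cfsg.Agent.BpSpor.Inn

open Cfsg

theorem tits {K : Type*} [Group K] (h : Lie.IsoTits K) : OddInn K :=
  fun _ hp hp2 => Cfsg.Agent.CpAutTits.Row.autInner h hp hp2

end Cfsg.Agent.BpSpor.Inn

end

-- merged: Cfsg.Agent.BpSpor.Row.Tits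
section

/-!
# S1332, the row `Tits` for all odd primes, from the primes whose square divides the order (helper5)
-/

set_option autoImplicit false

namespace Cfsg.Agent.BpSpor.Row

open Cfsg Cfsg.Agent.BpTab

universe u

theorem dat_tits {K : Type u} [Group K] (h : Lie.IsoTits K) : Dat K 17971200 where
  simple := by
    obtain ⟨e⟩ := h
    have hs : IsSimpleGroup Cfsg.Lie.TitsGroup := Cfsg.Agent.S1074.result.2.1
    have hn : Nontrivial K := e.toEquiv.nontrivial
    exact IsSimpleGroup.isSimpleGroup_of_surjective e.symm.toMonoidHom e.symm.surjective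
  card := by
    obtain ⟨e⟩ := h
    rw [Nat.card_congr e.toEquiv, Cfsg.Agent.S1074.result.2.2.2]
    norm_num
  inn := Inn.tits h

theorem tits_of {K : Type u} [Group K] (h : Lie.IsoTits K) (h3 : BpS 3 K) (h5 : BpS 5 K) {p : ℕ} (hp : p.Prime)
    (hp2 : p ≠ 2) : BpS p K := by
  refine (dat_tits h).bps (l := [(2, 11), (3, 3), (5, 2), (13, 1)]) (by decide +kernel)
    (by norm_num) (fun x hx hx2 hx3 => ?_) hp hp2
  simp only [List.mem_cons, List.not_mem_nil, or_false] at hx
  rcases hx with rfl | rfl | rfl | rfl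
  · exact absurd rfl hx3
  · exact h3
  · exact h5
  · exact absurd hx2 (by norm_num)

end Cfsg.Agent.BpSpor.Row

end
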